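import Groth.Agent.Lib.DBaseChange.Nilp2
import Groth.Agent.Lib.DBaseChange.TorTri
import Mathlib.Algebra.Homology.HomologySequence
import Mathlib.RingTheory.Localization.BaseChange
import Mathlib.Algebra.Homology.ShortComplex.Linear

/-!
Flatness of an object can be checked after inverting an element and modulo it.
-/

set_option autoImplicit false
set_option linter.unusedSectionVars false
set_option linter.style.haveILetI false
set_option backward.isDefEq.respectTransparency false
set_option maxHeartbeats 400000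

universe u

open CategoryTheory CategoryTheory.Limits MonoidalCategory CategoryTheory.Pretriangulated
open scoped TensorProduct

attribute [local instance] HasDerivedCategory.standard

namespace Groth.Agent.FlatCheck9

open DBaseChange KFlat KFlat.Module

variable {R : Type u} [CommRing R] (F : DRing.Cx R) (hF : ∀ i, _root_.Module.Flat R (F.X i))

/-- Tensoring the flat complex with a map of modules. -/
noncomputable def tmMap {M N : ModuleCat.{u} R} (g : M ⟶ N) : (tm M).obj F ⟶ (tm N).obj F :=
  (NatTrans.mapHomologicalComplex ((tensoringRight (ModuleCat.{u} R)).map g) (ComplexShape.up ℤ)).app F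

theorem tmMap_comp {M N P : ModuleCat.{u} R} (g : M ⟶ N) (h : N ⟶ P) :
    tmMap F (g ≫ h) = tmMap F g ≫ tmMap F h :=
  HomologicalComplex.hom_ext _ _ fun i => ModuleCat.hom_ext (LinearMap.lTensor_comp (F.X i) h.hom g.hom)

theorem tmMap_smul (M : ModuleCat.{u} R) (f : R) : tmMap F (f • 𝟙 M) = f • 𝟙 ((tm M).obj F) :=
  HomologicalComplex.hom_ext _ _ fun i => ModuleCat.hom_ext
    ((LinearMap.lTensor_smul (F.X i) f (LinearMap.id : M →ₗ[R] M)).trans
      (congrArg (f • ·) (LinearMap.lTensor_id (F.X i) M)))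

/-- The sequence obtained from a sequence of modules. -/
noncomputable def tmSC (S : ShortComplex (ModuleCat.{u} R)) : ShortComplex (DRing.Cx R) :=
  ShortComplex.mk (tmMap F S.f) (tmMap F S.g) (by
    rw [← tmMap_comp, S.zero]
    exact HomologicalComplex.hom_ext _ _ fun i => ModuleCat.hom_ext (LinearMap.lTensor_zero (F.X i)))

include hF in
theorem shortExact_tmSC {S : ShortComplex (ModuleCat.{u} R)} (hS : S.ShortExact) : (tmSC F S).ShortExact :=
  HomologicalComplex.shortExact_of_degreewise_shortExact _ fun i => by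
    haveI := hF i
    refine ShortComplex.ShortExact.mk' ((ShortComplex.ShortExact.moduleCat_exact_iff_function_exact _).2 ?_)
      ((ModuleCat.mono_iff_injective _).2 ?_) ((ModuleCat.epi_iff_surjective _).2 ?_)
    · exact _root_.Module.Flat.lTensor_exact (F.X i)
        ((ShortComplex.ShortExact.moduleCat_exact_iff_function_exact S).1 hS.exact)
    · exact _root_.Module.Flat.lTensor_preserves_injective_linearMap S.f.hom hS.moduleCat_injective_f
    · exact LinearMap.lTensor_surjective (F.X i) hS.moduleCat_surjective_g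

variable {F}

include hF in
theorem injective_homologyMap_g {S : ShortComplex (ModuleCat.{u} R)} (hS : S.ShortExact) (i : ℤ)
    (h : Subsingleton (((tm S.X₁).obj F).homology i)) :
    Mono (HomologicalComplex.homologyMap (tmMap F S.g) i) :=
  ((shortExact_tmSC F hF hS).homology_exact₂ i).mono_g
    ((@ModuleCat.isZero_of_subsingleton _ _ (((tm S.X₁).obj F).homology i) h).eq_of_src _ _)

include hF in
theorem injective_homologyMap_f {S : ShortComplex (ModuleCat.{u} R)} (hS : S.ShortExact) (i : ℤ)
    (h : Subsingleton (((tm S.X₃).obj F).homology (i - 1))) :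
    Mono (HomologicalComplex.homologyMap (tmMap F S.f) i) :=
  ((shortExact_tmSC F hF hS).homology_exact₁ (i - 1) i (by simp)).mono_g
    ((@ModuleCat.isZero_of_subsingleton _ _ (((tm S.X₃).obj F).homology (i - 1)) h).eq_of_src _ _)

variable (f : R)

include hF in
theorem injective_smul (i : ℤ)
    (h : ∀ (N : ModuleCat.{u} R), Ideal.span {f} • (⊤ : Submodule R N) = ⊥ →
      Subsingleton (((tm N).obj F).homology i) ∧ Subsingleton (((tm N).obj F).homology (i - 1)))
    (M : ModuleCat.{u} R) : Function.Injective fun z : ((tm M).obj F).homology i => f • z := by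
  let g : M →ₗ[R] M := LinearMap.lsmul R M f
  let S₁ : ShortComplex (ModuleCat.{u} R) := ShortComplex.mk
    (ModuleCat.ofHom (LinearMap.ker g).subtype) (ModuleCat.ofHom g.rangeRestrict)
    (ModuleCat.hom_ext (LinearMap.ext fun x => Subtype.ext (LinearMap.mem_ker.1 x.property)))
  let S₂ : ShortComplex (ModuleCat.{u} R) := ShortComplex.mk
    (ModuleCat.ofHom (LinearMap.range g).subtype) (ModuleCat.ofHom (LinearMap.range g).mkQ)
    (ModuleCat.hom_ext (LinearMap.ext fun x => (Submodule.Quotient.mk_eq_zero _).2 x.2))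
  have hS₁ : S₁.ShortExact := ShortComplex.ShortExact.mk'
    ((ShortComplex.ShortExact.moduleCat_exact_iff_function_exact _).2 fun x =>
      ⟨fun hx => ⟨⟨x, congrArg Subtype.val hx⟩, rfl⟩, fun ⟨y, hy⟩ => hy ▸ Subtype.ext y.2⟩)
    ((ModuleCat.mono_iff_injective _).2 Subtype.val_injective)
    ((ModuleCat.epi_iff_surjective _).2 g.surjective_rangeRestrict)
  have hS₂ : S₂.ShortExact := ShortComplex.ShortExact.mk'
    ((ShortComplex.ShortExact.moduleCat_exact_iff_function_exact _).2
      (LinearMap.exact_subtype_mkQ (LinearMap.range g)))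
    ((ModuleCat.mono_iff_injective _).2 Subtype.val_injective)
    ((ModuleCat.epi_iff_surjective _).2 (Submodule.mkQ_surjective _))
  have hk : ∀ (N : ModuleCat.{u} R), (∀ x : N, f • x = 0) → Ideal.span {f} • (⊤ : Submodule R N) = ⊥ := by
    intro N hN
    rw [eq_bot_iff, Submodule.smul_le]
    intro r hr x _
    obtain ⟨c, rfl⟩ := Ideal.mem_span_singleton'.1 hr
    rw [mul_smul, hN, smul_zero]
    exact Submodule.zero_mem _
  haveI := injective_homologyMap_g hF hS₁ i (h _ (hk (ModuleCat.of R (LinearMap.ker g)) fun x => Subtype.ext x.2)).1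
  haveI := injective_homologyMap_f hF hS₂ i (h _ (hk _ fun x => by
    obtain ⟨y, rfl⟩ := Submodule.mkQ_surjective _ x
    exact (Submodule.Quotient.mk_eq_zero _).2 ⟨y, rfl⟩)).2
  have hm : Mono (HomologicalComplex.homologyMap (tmMap F S₁.g) i ≫
      HomologicalComplex.homologyMap (tmMap F S₂.f) i) := inferInstance
  rw [← HomologicalComplex.homologyMap_comp, ← tmMap_comp,
    show S₁.g ≫ S₂.f = f • 𝟙 M from rfl, tmMap_smul] at hm
  have hs : HomologicalComplex.homologyMap (f • 𝟙 ((tm M).obj F)) i = f • 𝟙 (((tm M).obj F).homology i) := by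
    have h3 : (HomologicalComplex.shortComplexFunctor (ModuleCat.{u} R) (ComplexShape.up ℤ) i).map
        (f • 𝟙 ((tm M).obj F)) = f • 𝟙 (((tm M).obj F).sc i) := by ext <;> rfl
    show ShortComplex.homologyMap ((HomologicalComplex.shortComplexFunctor (ModuleCat.{u} R) (ComplexShape.up ℤ) i).map
      (f • 𝟙 ((tm M).obj F))) = _
    rw [h3, ShortComplex.homologyMap_smul, ShortComplex.homologyMap_id]
    rfl
  rw [hs] at hm
  exact (ModuleCat.mono_iff_injective _).1 hm

theorem rTensor_lTensor_apply {X Y M M' : Type u} [AddCommGroup X] [Module R X] [AddCommGroup Y] [Module R Y]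
    [AddCommGroup M] [Module R M] [AddCommGroup M'] [Module R M'] (d : X →ₗ[R] Y) (g : M →ₗ[R] M') (x : X ⊗[R] M) :
    d.rTensor M' (g.lTensor X x) = g.lTensor Y (d.rTensor M x) :=
  (LinearMap.congr_fun (TensorProduct.ext' fun a b => rfl :
    d.rTensor M' ∘ₗ g.lTensor X = g.lTensor Y ∘ₗ d.rTensor M) x :)

theorem isLocalizedModule_lTensor_mk (X M : Type u) [AddCommGroup X] [Module R X] [AddCommGroup M] [Module R M] :
    IsLocalizedModule (Submonoid.powers f) ((TensorProduct.mk R (Localization.Away f) M 1).lTensor X) := by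
  have h : (TensorProduct.leftComm R (Localization.Away f) X M).toLinearMap ∘ₗ
      TensorProduct.mk R (Localization.Away f) (X ⊗[R] M) 1 =
      (TensorProduct.mk R (Localization.Away f) M 1).lTensor X := TensorProduct.ext' fun a b => rfl
  rw [← h]
  haveI : IsLocalizedModule (Submonoid.powers f) (TensorProduct.mk R (Localization.Away f) (X ⊗[R] M) 1) :=
    inferInstance
  exact IsLocalizedModule.of_linearEquiv (Submonoid.powers f) _ _

include hF in
theorem subsingleton_of_away (i : ℤ)
    (hinj : ∀ M : ModuleCat.{u} R, Function.Injective fun z : ((tm M).obj F).homology i => f • z)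
    (hloc : ∀ N : ModuleCat.{u} (Localization.Away f),
      Subsingleton (((tm N).obj ((extCx (algebraMap R (Localization.Away f))).obj F)).homology i))
    (M : ModuleCat.{u} R) : Subsingleton (((tm M).obj F).homology i) := by
  let S := Submonoid.powers f
  let L := Localization.Away f
  let ι : M →ₗ[R] L ⊗[R] M := TensorProduct.mk R L M 1
  let N : ModuleCat.{u} L := ModuleCat.of L (L ⊗[R] M)
  let e : ModuleCat.of R (L ⊗[R] M) ≅ (ModuleCat.restrictScalars (algebraMap R L)).obj N :=
    LinearEquiv.toModuleIso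
      (show (L ⊗[R] M) ≃ₗ[R] (ModuleCat.restrictScalars (algebraMap R L)).obj N from
        { AddEquiv.refl _ with map_smul' := fun r x => (algebraMap_smul L r x).symm })
  have hN : Subsingleton (((tm (ModuleCat.of R (L ⊗[R] M))).obj F).homology i) :=
    ((HomologicalComplex.homologyFunctor _ _ i).mapIso
      ((NatIso.mapHomologicalComplex ((tensoringRight (ModuleCat.{u} R)).mapIso e)
        (ComplexShape.up ℤ)).app F)).toLinearEquiv.toEquiv.subsingleton_congr.2
      (subsingleton_tm_res (algebraMap R L) N i (hloc N))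
  let G := (tm M).obj F
  refine ((DMod.subsingleton_homology_iff G (i := i - 1) (k := i + 1) (by simp) (by simp))).2 fun z hz => ?_
  let ιn : ∀ n, G.X n →ₗ[R] ((tm (ModuleCat.of R (L ⊗[R] M))).obj F).X n := fun n => ι.lTensor (F.X n)
  have hι : ∀ n, IsLocalizedModule S (ι.lTensor (F.X n)) := fun n => isLocalizedModule_lTensor_mk f (F.X n) M
  have hd : ∀ n n' (x : G.X n), ((tm (ModuleCat.of R (L ⊗[R] M))).obj F).d n n' (ιn n x) =
      ιn n' (G.d n n' x) := fun n n' x => by
    change (F.d n n').hom.rTensor (L ⊗[R] M) (ι.lTensor (F.X n) x) = ι.lTensor (F.X n') ((F.d n n').hom.rTensor M x)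
    exact rTensor_lTensor_apply (F.d n n').hom ι x
  obtain ⟨y, hy⟩ := (DMod.subsingleton_homology_iff _ (i := i - 1) (k := i + 1) (by simp) (by simp)).1 hN
    (ιn i z) (by rw [hd, hz, map_zero])
  obtain ⟨⟨w, ⟨_, k, rfl⟩⟩, hw⟩ := (hι (i - 1)).surj y
  change (f ^ k) • y = ιn (i - 1) w at hw
  have h1 : ιn i (G.d (i - 1) i w) = ιn i ((f ^ k) • z) := by
    rw [← hd, ← hw, map_smul, map_smul]
    exact congrArg ((f ^ k) • ·) hy
  obtain ⟨⟨_, l, rfl⟩, hl⟩ := (hι i).exists_of_eq (S := S) h1
  change f ^ l • G.d (i - 1) i w = f ^ l • (f ^ k • z) at hl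
  rw [← mul_smul, ← pow_add, ← map_smul] at hl
  have key : ∀ (m : ℕ) (x : G.X i), G.d i (i + 1) x = 0 → (∃ u, G.d (i - 1) i u = f ^ m • x) →
      ∃ u, G.d (i - 1) i u = x := by
    intro m
    induction m with
    | zero => intro x _ ⟨u, hu⟩; exact ⟨u, by rw [hu, pow_zero, one_smul]⟩
    | succ m ih =>
      intro x hx ⟨u, hu⟩
      refine ih x hx ?_
      have hx' : G.d i (i + 1) (f ^ m • x) = 0 := by rw [map_smul, hx, smul_zero]
      refine exact_of_injective_smul (hinj M) (f ^ m • x) hx' u ?_
      rw [hu, ← mul_smul, ← pow_succ']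
  exact key _ z hz ⟨_, hl⟩
where
  /-- A cycle with boundary multiple is a boundary. -/
  exact_of_injective_smul {G : DRing.Cx R} {i : ℤ}
      (hinj : Function.Injective fun z : G.homology i => f • z) (x : G.X i) (hx : G.d i (i + 1) x = 0)
      (u : G.X (i - 1)) (hu : G.d (i - 1) i u = f • x) : ∃ v, G.d (i - 1) i v = x := by
    obtain ⟨c, rfl⟩ := DMod.exists_cycle (K := G) (k := i + 1) (by simp) x hx
    refine (DMod.homologyπ_eq_zero_iff (K := G) (i := i - 1) (by simp) c).1 (hinj ?_)
    show f • G.homologyπ i c = f • (0 : G.homology i)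
    rw [smul_zero, ← map_smul]
    exact (DMod.homologyπ_eq_zero_iff (K := G) (i := i - 1) (by simp) (f • c)).2 ⟨u, by rw [hu, map_smul]⟩

variable (R) in
/-- Flatness is checked after inverting `f` and modulo `f`. -/
theorem exists_flat [DRing.HasLBaseChange (algebraMap R (Localization.Away f))]
    [DRing.HasLBaseChange (Ideal.Quotient.mk (Ideal.span ({f} : Set R)))] (M : Dual.D R)
    (h1 : ∀ i : ℤ, 0 < i → Subsingleton (Dual.HD R M i))
    (h2 : DRing.HasTorAmplitudeIn (Localization.Away f) 0 0
      ((DRing.LBaseChange (algebraMap R (Localization.Away f))).obj M))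
    (h3 : DRing.HasTorAmplitudeIn (R ⧸ Ideal.span ({f} : Set R)) 0 0
      ((DRing.LBaseChange (Ideal.Quotient.mk (Ideal.span ({f} : Set R)))).obj M)) :
    DRing.HasTorAmplitudeIn R 0 0 M := by
  haveI : M.IsLE 0 := (DMod.isLE_iff M 0).2 h1
  obtain ⟨F, hle, hFf, ⟨eF⟩⟩ := DMod.exists_free_resolution M 0
  have hF := flat_of_free hFf
  have hA := adapted_of_flat F 0 hF
  have hb : ∀ {B : Type u} [CommRing B] (φ : R →+* B) [DRing.HasLBaseChange φ],
      DRing.HasTorAmplitudeIn B 0 0 ((DRing.LBaseChange φ).obj M) → ∀ (N : ModuleCat.{u} B) (i : ℤ), i < 0 →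
        Subsingleton (((tm N).obj ((extCx φ).obj F)).homology i) := by
    intro B _ φ _ h N i hi
    haveI : ((extCx φ).obj F).IsStrictlyLE 0 := (CochainComplex.isStrictlyLE_iff _ _).2 fun j hj =>
      Functor.map_isZero (ModuleCat.extendScalars.{u, u, u} φ) (F.isZero_of_isStrictlyLE 0 j hj)
    have ht := torBound_of_hasTorAmplitudeIn ((extCx φ).obj F) 0
      (fun j => haveI := hF j; flat_ext_of_flat φ (F.X j)) 0 0
      (hasTorAmplitudeIn_of_iso ((DRing.LBaseChange φ).mapIso eF.symm ≪≫ valueIso φ F hA) h) N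
    exact (DMod.subsingleton_HD_toD_iff _ i).1 ((DMod.isGE_iff _ 0).1 ht.1 i hi)
  refine hasTorAmplitudeIn_of_iso eF (hasTorAmplitudeIn_of_torBound F 0 hF 0 0 fun N => ⟨?_, ?_⟩)
  · refine (DMod.isGE_iff _ 0).2 fun i hi => (DMod.subsingleton_HD_toD_iff _ i).2 ?_
    have hq : ∀ (j : ℤ), j < 0 → ∀ P : ModuleCat.{u} R, Ideal.span {f} • (⊤ : Submodule R P) = ⊥ →
        Subsingleton (((tm P).obj F).homology j) := fun j hj P hP =>
      subsingleton_tm_of_ext (Ideal.Quotient.mk (Ideal.span ({f} : Set R))) Ideal.Quotient.mk_surjective P (by rwa [Ideal.mk_ker]) j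
        fun Q => hb _ h3 Q j hj
    exact subsingleton_of_away hF f i
      (fun P => injective_smul hF f i (fun Q hQ => ⟨hq i hi Q hQ, hq (i - 1) (by omega) Q hQ⟩) P)
      (fun Q => hb _ h2 Q i hi) N
  · haveI : ((tm N).obj F).IsStrictlyLE 0 := (CochainComplex.isStrictlyLE_iff _ _).2 fun j hj =>
      Functor.map_isZero (tensorRight N) (F.isZero_of_isStrictlyLE 0 j hj)
    exact inferInstanceAs ((DerivedCategory.Q.obj ((tm N).obj F)).IsLE 0)

end Groth.Agent.FlatCheck9
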